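import Groth.Agent.L13.Purity.Scheme
import Groth.Agent.L27.NormalSepClosed.FEt
import Groth.Agent.L27.SGA1.FEtFaithful
import Groth.Agent.S7180
import Groth.Prelude.Def_Pi1
import Mathlib.AlgebraicGeometry.Noetherian

/-! Restriction of finite etale covers of a normal scheme to a dense open is fully faithful. -/

set_option autoImplicit false
set_option linter.style.haveILetI false
set_option backward.isDefEq.respectTransparency.types false

universe u

open CategoryTheory CategoryTheory.Limits AlgebraicGeometry TopologicalSpace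

namespace Groth.L27.BirPi1

variable {X : Scheme.{u}}

/-- the closure of a relatively clopen subset of a dense open of a normal scheme is clopen -/
theorem isOpen_closure_of_relClopen {T : Scheme.{u}} [IsLocallyNoetherian T] (hN : Pi1.IsNormalScheme T)
    (O C : Set T) (hO : IsOpen O) (hOd : Dense O) (hC : IsOpen C) (hCO : C ⊆ O) (hOC : IsOpen (O \ C)) :
    IsOpen (closure C) := by
  refine isOpen_iff_forall_mem_open.2 fun a ha => ?_
  haveI := (hN a).1
  obtain ⟨D, hD, haD, hdom⟩ := Groth.L13.Purity.exists_isDomain_nhd a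
  have hirr : IsPreirreducible (D : Set T) := by
    haveI : IsAffine D.toScheme := hD
    haveI : Nonempty D.toScheme := ⟨⟨a, haD⟩⟩
    haveI : IsDomain Γ(D.toScheme, ⊤) := D.topIso.commRingCatIsoToRingEquiv.toMulEquiv.isDomain _
    haveI : IsIntegral D.toScheme := isIntegral_of_isAffine_of_isDomain _
    have h := (PreirreducibleSpace.isPreirreducible_univ (X := (D : Scheme.{u}))).image D.ι
      D.ι.continuous.continuousOn
    rwa [Set.image_univ, Scheme.Opens.range_ι] at h
  refine ⟨D, fun w hw => ?_, D.2, haD⟩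
  obtain ⟨c, hcD, hcC⟩ := mem_closure_iff.1 ha D D.2 haD
  have hsub : (D : Set T) ∩ O ⊆ C := fun z hz => by
    by_contra hn
    obtain ⟨t, -, htC, htn⟩ := hirr C (O \ C) hC hOC ⟨c, hcD, hcC⟩ ⟨z, hz.1, hz.2, hn⟩
    exact htn.2 htC
  rw [mem_closure_iff]
  intro o ho hwo
  obtain ⟨z, ⟨hzo, hzD⟩, hzO⟩ := hOd.inter_open_nonempty (o ∩ D) (ho.inter D.2) ⟨w, hwo, hw⟩
  exact ⟨z, hzo, hsub ⟨hzD, hzO⟩⟩

theorem meetsClopens_of_dense {Y : Scheme.{u}} (f : Y ⟶ X) (hf : Dense (Set.range f)) :
    Groth.L27.NormalSepClosed.MeetsClopens f := by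
  intro Z z _ _ C hC hne
  obtain ⟨_, ⟨c, hc, rfl⟩, h⟩ := hf.inter_open_nonempty _ (z.isOpenMap _ hC.2) (hne.image z)
  exact ⟨c, hc, h⟩

theorem faithful_restrict (U : X.Opens) (hU : Dense (U : Set X)) : (FEt.restrict U.ι).Faithful :=
  Groth.L27.SGA1Conn.faithful_of_denseRange _ (by rw [DenseRange, Scheme.Opens.range_ι]; exact hU)

theorem full_restrict [IsLocallyNoetherian X] (hN : Pi1.IsNormalScheme X) (U : X.Opens)
    (hU : Dense (U : Set X)) : (FEt.restrict U.ι).Full := by
  refine ⟨fun {V W} φ => ?_⟩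
  haveI : Etale V.hom := V.prop.2
  haveI : IsFinite V.hom := V.prop.1
  haveI : Etale W.hom := W.prop.2
  haveI : IsFinite W.hom := W.prop.1
  let f := U.ι
  let T := pullback V.hom W.hom
  let pr₁ : T ⟶ V.left := pullback.fst V.hom W.hom
  let t : T ⟶ X := pr₁ ≫ V.hom
  haveI : Etale t := inferInstance
  haveI : IsFinite t := inferInstance
  haveI : IsLocallyNoetherian T := LocallyOfFiniteType.isLocallyNoetherian t
  have hNT : Pi1.IsNormalScheme T := Groth.Agent.S7180.result t hN
  let p : pullback t f ⟶ T := pullback.fst t f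
  let fV := pullback.fst V.hom f
  let qV : pullback t f ⟶ pullback V.hom f := pullback.lift (p ≫ pr₁) (pullback.snd t f)
    ((Category.assoc _ _ _).trans pullback.condition)
  have hφw : φ.left ≫ pullback.snd W.hom f = pullback.snd V.hom f := MorphismProperty.Over.w φ
  let γ₁ : pullback V.hom f ⟶ T := pullback.lift fV (φ.left ≫ pullback.fst W.hom f) (by
    refine (pullback.condition).trans ?_
    refine (congrArg (· ≫ f) hφw.symm).trans ?_
    refine (Category.assoc _ _ _).trans (Eq.trans ?_ (Category.assoc _ _ _).symm)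
    exact congrArg (φ.left ≫ ·) pullback.condition.symm)
  have hγ₁ : γ₁ ≫ t = pullback.snd V.hom f ≫ f := by
    rw [← Category.assoc, pullback.lift_fst]; exact pullback.condition
  let γ : pullback V.hom f ⟶ pullback t f := pullback.lift γ₁ (pullback.snd V.hom f) hγ₁
  have hγq : γ ≫ qV = 𝟙 _ := by
    apply pullback.hom_ext
    · rw [Category.assoc, pullback.lift_fst, ← Category.assoc, pullback.lift_fst, pullback.lift_fst,
        Category.id_comp]
    · rw [Category.assoc, pullback.lift_snd, pullback.lift_snd, Category.id_comp]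
  have sq : IsPullback p qV pr₁ fV := by
    refine IsPullback.of_bot (h₂₁ := fV) (v₂₁ := pullback.snd V.hom f) ?_ (pullback.lift_fst _ _ _).symm
      (IsPullback.of_hasPullback V.hom f)
    have : qV ≫ pullback.snd V.hom f = pullback.snd t f := pullback.lift_snd _ _ _
    rw [this]
    exact IsPullback.of_hasPullback t f
  haveI : Etale qV := MorphismProperty.of_isPullback (P := @Etale) sq inferInstance
  haveI : IsFinite qV := MorphismProperty.of_isPullback (P := @IsFinite) sq inferInstance
  haveI : IsClosedImmersion (γ ≫ qV) := hγq.symm ▸ inferInstance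
  haveI : IsClosedImmersion γ := IsClosedImmersion.of_comp γ qV
  haveI : Etale (γ ≫ qV) := hγq.symm ▸ inferInstance
  haveI : Etale γ := Etale.of_comp γ qV
  haveI : IsOpenImmersion γ := IsOpenImmersion.of_flat_of_mono γ
  have hp : Set.range p = t ⁻¹' (U : Set X) := by
    show Set.range (pullback.fst t f) = _
    rw [Scheme.Pullback.range_fst, Scheme.Opens.range_ι]
  let C : Set T := p '' Set.range γ
  have hCo : IsOpen C := p.isOpenEmbedding.isOpenMap _ γ.isOpenEmbedding.isOpen_range
  have hCc : IsOpen (Set.range p \ C) := by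
    rw [← Set.image_univ, ← Set.image_sdiff p.isOpenEmbedding.injective]
    exact p.isOpenEmbedding.isOpenMap _ (isOpen_univ.sdiff γ.isClosedEmbedding.isClosed_range)
  have hd : Dense (Set.range p) := by rw [hp]; exact hU.preimage t.isOpenMap
  let G : T.Opens := ⟨closure C, isOpen_closure_of_relClopen hNT (Set.range p) C
    p.isOpenEmbedding.isOpen_range hd hCo (Set.image_subset_range _ _) hCc⟩
  have hGc : IsClosed (G : Set T) := isClosed_closure
  have hpG : p ⁻¹' (G : Set T) = Set.range γ := by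
    refine Set.Subset.antisymm (fun z hz => ?_) fun z hz => subset_closure ⟨z, hz, rfl⟩
    by_contra hn
    obtain ⟨w, ⟨-, hwn⟩, hwC⟩ := mem_closure_iff.1 hz _ hCc
      ⟨⟨z, rfl⟩, fun ⟨z', hz', e⟩ => hn (p.isOpenEmbedding.injective e ▸ hz')⟩
    exact hwn hwC
  haveI : IsClosedImmersion (Scheme.Opens.ι G) :=
    IsClosedImmersion.of_isPreimmersion (Scheme.Opens.ι G) (by rw [Scheme.Opens.range_ι]; exact hGc)
  let b : (G : Scheme.{u}) ⟶ V.left := Scheme.Opens.ι G ≫ pr₁
  let O : (pullback t f : Scheme.{u}).Opens := p ⁻¹ᵁ G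
  have sqb : IsPullback (p ∣_ G) (Scheme.Opens.ι O ≫ qV) b fV :=
    (isPullback_morphismRestrict p G).paste_vert sq
  have hr : Set.range γ = Set.range (Scheme.Opens.ι O) := by
    rw [Scheme.Opens.range_ι]; exact hpG.symm
  let γ' : pullback V.hom f ⟶ O := IsOpenImmersion.lift (Scheme.Opens.ι O) γ hr.subset
  have hγ' : γ' ≫ Scheme.Opens.ι O = γ := IsOpenImmersion.lift_fac _ _ _
  haveI : IsIso (Scheme.Opens.ι O ≫ qV) := by
    haveI : IsOpenImmersion (γ' ≫ Scheme.Opens.ι O) := hγ'.symm ▸ inferInstance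
    haveI : IsOpenImmersion γ' := IsOpenImmersion.of_comp γ' (Scheme.Opens.ι O)
    haveI : IsIso γ' := by
      haveI : Epi γ'.base := (TopCat.epi_iff_surjective _).2 fun o => by
        obtain ⟨a, ha⟩ := hr.symm.subset ⟨o, rfl⟩
        exact ⟨a, (Scheme.Opens.ι O).isEmbedding.injective
          ((Scheme.Hom.comp_apply _ _ _).symm.trans ((congr($hγ' a)).trans ha))⟩
      exact IsOpenImmersion.isIso γ'
    have h : γ' ≫ (Scheme.Opens.ι O ≫ qV) = 𝟙 _ := by rw [← Category.assoc, hγ', hγq]
    have h2 : Scheme.Opens.ι O ≫ qV = inv γ' := by rw [← cancel_epi γ', h, IsIso.hom_inv_id]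
    rw [h2]
    infer_instance
  haveI : IsIso (pullback.snd b fV) := by
    rw [← sqb.isoPullback_inv_snd]
    infer_instance
  haveI : IsIso b := Groth.L27.NormalSepClosed.isIso_of_restrict b fV (meetsClopens_of_dense fV (by
    show Dense (Set.range (pullback.fst V.hom f))
    rw [Scheme.Pullback.range_fst, Scheme.Opens.range_ι]
    exact hU.preimage V.hom.isOpenMap))
  have hwb : (inv b ≫ Scheme.Opens.ι G ≫ pullback.snd V.hom W.hom) ≫ W.hom = V.hom := by
    rw [Category.assoc, Category.assoc, IsIso.inv_comp_eq]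
    exact (congrArg (Scheme.Opens.ι G ≫ ·) pullback.condition.symm).trans (Category.assoc _ _ _).symm
  refine ⟨MorphismProperty.Over.homMk (inv b ≫ Scheme.Opens.ι G ≫ pullback.snd V.hom W.hom) hwb, ?_⟩
  have hl : γ' ≫ (p ∣_ G) ≫ Scheme.Opens.ι G = γ₁ := by
    rw [morphismRestrict_ι, ← Category.assoc, hγ', pullback.lift_fst]
  have hlb : γ' ≫ (p ∣_ G) = fV ≫ inv b := by
    rw [IsIso.eq_comp_inv]
    show (γ' ≫ p ∣_ G) ≫ Scheme.Opens.ι G ≫ pr₁ = fV
    rw [← Category.assoc, Category.assoc γ', hl]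
    exact pullback.lift_fst _ _ _
  refine MorphismProperty.Over.Hom.ext (pullback.hom_ext ?_ ?_)
  · refine (pullback.lift_fst _ _ _).trans ?_
    show fV ≫ inv b ≫ Scheme.Opens.ι G ≫ pullback.snd V.hom W.hom = _
    rw [← Category.assoc fV (inv b), ← hlb, Category.assoc, ← Category.assoc (p ∣_ G),
      ← Category.assoc γ', hl]
    exact pullback.lift_snd _ _ _
  · exact (pullback.lift_snd _ _ _).trans hφw.symm

end Groth.L27.BirPi1
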