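import Groth.Agent.L27.BirPi1.Extend
import Groth.Agent.L27.BirPi1.Full
import Groth.Agent.L13.Purity.Equiv
import Groth.Agent.S0238

/-! Birational invariance of the category of finite etale covers. -/

set_option autoImplicit false
set_option linter.style.haveILetI false
set_option backward.isDefEq.respectTransparency.types false

universe u v₁ v₂ v₃ u₁ u₂ u₃

open CategoryTheory CategoryTheory.Limits AlgebraicGeometry TopologicalSpace

namespace Groth.L27.BirPi1

/-- two fully faithful functors with the same essential image have equivalent sources -/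
theorem exists_equivalence {C : Type u₁} [Category.{v₁} C] {D : Type u₂} [Category.{v₂} D] {E : Type u₃}
    [Category.{v₃} E] (R : C ⥤ E) (G : D ⥤ E) [R.Full] [R.Faithful] [G.Full] [G.Faithful]
    (h1 : ∀ A, ∃ B, Nonempty (G.obj B ≅ R.obj A)) (h2 : ∀ B, ∃ A, Nonempty (R.obj A ≅ G.obj B)) :
    ∃ Φ : C ≌ D, Nonempty (R ≅ Φ.functor ⋙ G) := by
  choose o ho using h1
  let e : ∀ A, G.obj (o A) ≅ R.obj A := fun A => (ho A).some
  let H : C ⥤ D :=
    { obj := o
      map := fun {A A'} f => G.preimage ((e A).hom ≫ R.map f ≫ (e A').inv)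
      map_id := fun A => G.map_injective (by simp)
      map_comp := fun f g => G.map_injective (by simp) }
  have θ : R ≅ H ⋙ G := NatIso.ofComponents (fun A => (e A).symm) (fun f => by simp [H])
  haveI : (H ⋙ G).Full := Functor.Full.of_iso θ
  haveI : (H ⋙ G).Faithful := Functor.Faithful.of_iso θ
  haveI : H.Faithful := Functor.Faithful.of_comp H G
  haveI : H.Full := Functor.Full.of_comp_faithful H G
  haveI : H.EssSurj := ⟨fun B => by
    obtain ⟨A, ⟨i⟩⟩ := h2 B
    exact ⟨A, ⟨G.preimageIso ((e A) ≪≫ i)⟩⟩⟩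
  haveI : H.IsEquivalence := { }
  exact ⟨H.asEquivalence, ⟨θ⟩⟩

variable {X Y Z : Scheme.{u}}

/-- restriction along a composite -/
noncomputable def restrictComp (f : X ⟶ Y) (g : Y ⟶ Z) (fg : X ⟶ Z) (h : fg = f ≫ g) :
    FEt.restrict fg ≅ FEt.restrict g ⋙ FEt.restrict f :=
  MorphismProperty.Over.pullbackComp f g fg h

theorem isEquivalence_of_iso (e : X ≅ Y) : (FEt.restrict e.hom).IsEquivalence :=
  Groth.Agent.S0238.result e.hom

theorem isNormal_of_regular (hX : ∀ x : X, IsRegularLocalRing (X.presheaf.stalk x)) : Pi1.IsNormalScheme X :=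
  fun x => haveI := hX x
    ⟨Groth.L01.isDomain_of_regular (X.presheaf.stalk x),
      haveI := Groth.L01.isDomain_of_regular (X.presheaf.stalk x)
      Groth.L03.RegularNormal.isIntegrallyClosed _⟩

/-- a cover of the target of a birational map spreads to the whole source, if that is regular -/
theorem exists_lift_cover [IsNoetherian X] (hX : ∀ x : X, IsRegularLocalRing (X.presheaf.stalk x))
    {S : Scheme.{u}} (p : X ⟶ S) (q : Y ⟶ S) [IsProper q] (U : X.Opens) (hU : Dense (U : Set X))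
    (e : U.toScheme ⟶ Y) (he : e ≫ q = U.ι ≫ p) (B : FEt.Cat Y) :
    ∃ A : FEt.Cat X, Nonempty ((FEt.restrict U.ι).obj A ≅ (FEt.restrict e).obj B) := by
  obtain ⟨X', hle, φ, hφ, -, hcodim⟩ := exists_extension (isNormal_of_regular hX) p q U hU e he
  haveI := Groth.L13.Purity.essSurj_restrict X' hX hcodim
  obtain ⟨A, ⟨i⟩⟩ := Functor.EssSurj.mem_essImage (FEt.restrict X'.ι) ((FEt.restrict φ).obj B)
  exact ⟨A, ⟨(restrictComp (X.homOfLE hle) X'.ι U.ι (X.homOfLE_ι hle).symm).app A ≪≫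
    (FEt.restrict (X.homOfLE hle)).mapIso i ≪≫ ((restrictComp (X.homOfLE hle) φ e hφ.symm).app B).symm⟩⟩

/-- proper regular birational schemes have equivalent categories of finite etale covers -/
theorem exists_equivalence_birational {S : Scheme.{u}} (f : X ⟶ S) (g : Y ⟶ S) [IsProper f] [IsProper g]
    [IsNoetherian X] [IsNoetherian Y]
    (hX : ∀ x : X, IsRegularLocalRing (X.presheaf.stalk x)) (hY : ∀ y : Y, IsRegularLocalRing (Y.presheaf.stalk y))
    (U : X.Opens) (V : Y.Opens) (hU : Dense (U : Set X)) (hV : Dense (V : Set Y))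
    (e : (U : Scheme.{u}) ≅ (V : Scheme.{u})) (he : e.hom ≫ V.ι ≫ g = U.ι ≫ f) :
    ∃ Φ : FEt.Cat X ≌ FEt.Cat Y,
      Nonempty (FEt.restrict U.ι ≅ Φ.functor ⋙ FEt.restrict V.ι ⋙ FEt.restrict e.hom) := by
  haveI := full_restrict (isNormal_of_regular hX) U hU
  haveI := faithful_restrict U hU
  haveI := full_restrict (isNormal_of_regular hY) V hV
  haveI := faithful_restrict V hV
  haveI := isEquivalence_of_iso e
  refine exists_equivalence (FEt.restrict U.ι) (FEt.restrict V.ι ⋙ FEt.restrict e.hom) (fun A => ?_) (fun B => ?_)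
  · obtain ⟨B, ⟨i⟩⟩ := exists_lift_cover hY g f V hV (e.inv ≫ U.ι)
      (by rw [Category.assoc, Iso.inv_comp_eq]; exact he.symm) A
    exact ⟨B, ⟨(FEt.restrict e.hom).mapIso i ≪≫
      ((restrictComp e.hom (e.inv ≫ U.ι) U.ι (by rw [Iso.hom_inv_id_assoc])).app A).symm⟩⟩
  · obtain ⟨A, ⟨i⟩⟩ := exists_lift_cover hX f g U hU (e.hom ≫ V.ι) (by rw [Category.assoc]; exact he) B
    exact ⟨A, ⟨i ≪≫ (restrictComp e.hom V.ι (e.hom ≫ V.ι) rfl).app B⟩⟩

/-- a proper birational morphism from a normal scheme to a regular one induces an equivalence -/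
theorem isEquivalence_restrict_birational (f : X ⟶ Y) [IsProper f] [IsNoetherian X] [IsNoetherian Y]
    (hX : Pi1.IsNormalScheme X) (hY : ∀ y : Y, IsRegularLocalRing (Y.presheaf.stalk y))
    (V : Y.Opens) (hV : Dense (V : Set Y)) (hU : Dense ((f ⁻¹ᵁ V : X.Opens) : Set X)) [IsIso (f ∣_ V)] :
    (FEt.restrict f).IsEquivalence := by
  let U : X.Opens := f ⁻¹ᵁ V
  let e : (U : Scheme.{u}) ≅ (V : Scheme.{u}) := asIso (f ∣_ V)
  haveI := full_restrict hX U hU
  haveI := faithful_restrict U hU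
  haveI := full_restrict (isNormal_of_regular hY) V hV
  haveI := faithful_restrict V hV
  haveI := isEquivalence_of_iso e
  have hsq : U.ι ≫ f = e.hom ≫ V.ι := (morphismRestrict_ι f V).symm
  let θ : FEt.restrict f ⋙ FEt.restrict U.ι ≅ FEt.restrict V.ι ⋙ FEt.restrict e.hom :=
    (restrictComp U.ι f (U.ι ≫ f) rfl).symm ≪≫ restrictComp e.hom V.ι (U.ι ≫ f) hsq
  haveI : (FEt.restrict f ⋙ FEt.restrict U.ι).Full := Functor.Full.of_iso θ.symm
  haveI : (FEt.restrict f ⋙ FEt.restrict U.ι).Faithful := Functor.Faithful.of_iso θ.symm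
  haveI : (FEt.restrict f).Faithful := Functor.Faithful.of_comp _ (FEt.restrict U.ι)
  haveI : (FEt.restrict f).Full := Functor.Full.of_comp_faithful _ (FEt.restrict U.ι)
  haveI : (FEt.restrict f).EssSurj := ⟨fun A => by
    obtain ⟨B, ⟨i⟩⟩ := exists_lift_cover hY (𝟙 Y) f V hV (e.inv ≫ U.ι)
      (by rw [Category.assoc, hsq, Iso.inv_hom_id_assoc, Category.comp_id]) A
    exact ⟨B, ⟨(FEt.restrict U.ι).preimageIso (θ.app B ≪≫ (FEt.restrict e.hom).mapIso i ≪≫
      ((restrictComp e.hom (e.inv ≫ U.ι) U.ι (by rw [Iso.hom_inv_id_assoc])).app A).symm)⟩⟩⟩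
  exact { }

end Groth.L27.BirPi1
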