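import Groth.Agent.L13.Purity.Scheme
import Groth.Prelude.Def_Pi1
import Mathlib.AlgebraicGeometry.SpreadingOut
import Mathlib.AlgebraicGeometry.ValuativeCriterion
import Mathlib.RingTheory.DiscreteValuationRing.TFAE
import Mathlib.RingTheory.Valuation.ValuationRing

/-! A morphism to a proper scheme, defined on a dense open of a normal scheme, extends to an open
containing all points of codimension at most one. -/

set_option autoImplicit false
set_option linter.style.haveILetI false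
set_option backward.isDefEq.respectTransparency.types false

universe u

open CategoryTheory CategoryTheory.Limits AlgebraicGeometry TopologicalSpace

namespace Groth.L27.BirPi1

/-- a normal noetherian local domain of dimension at most one is a valuation ring -/
theorem valuationRing_of_dim_le_one {R : Type u} [CommRing R] [IsDomain R] [IsLocalRing R] [IsNoetherianRing R]
    [IsIntegrallyClosed R] (h : ringKrullDim R ≤ 1) : ValuationRing R := by
  haveI : Ring.KrullDimLE 1 R := Ring.krullDimLE_iff.2 h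
  by_cases hf : IsField R
  · letI := hf.toField
    exact ValuationRing.of_field R
  haveI : IsDedekindDomain R :=
    { maximalOfPrime := fun hne hp => haveI := hp; Ideal.isMaximal_of_isPrime_of_ne_bot _ hne }
  haveI := (IsDiscreteValuationRing.TFAE R hf).out 2 0 |>.1 ‹IsDedekindDomain R›
  infer_instance

variable {X Y S : Scheme.{u}}

theorem isReduced_of_normal (hN : Pi1.IsNormalScheme X) : IsReduced X :=
  haveI := fun x : X => (haveI := (hN x).1; inferInstance : _root_.IsReduced (X.presheaf.stalk x))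
  isReduced_of_isReduced_stalk X

/-- the extension near one point of codimension at most one -/
theorem exists_local_extension [IsLocallyNoetherian X] (hN : Pi1.IsNormalScheme X) (p : X ⟶ S) (q : Y ⟶ S)
    [IsProper q] (U : X.Opens) (hU : Dense (U : Set X)) (e : U.toScheme ⟶ Y) (he : e ≫ q = U.ι ≫ p)
    (x : X) (hx : ringKrullDim (X.presheaf.stalk x) ≤ 1) :
    ∃ (W : X.Opens) (ψ : W.toScheme ⟶ Y), x ∈ W ∧ ψ ≫ q = W.ι ≫ p ∧
      X.homOfLE (inf_le_left : W ⊓ U ≤ W) ≫ ψ = X.homOfLE (inf_le_right : W ⊓ U ≤ U) ≫ e := by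
  haveI := (hN x).1
  haveI := (hN x).2
  haveI := isReduced_of_normal hN
  haveI : ValuationRing (X.presheaf.stalk x) := valuationRing_of_dim_le_one hx
  obtain ⟨D, hD, hxD, hdom⟩ := Groth.L13.Purity.exists_isDomain_nhd x
  haveI : IsAffine D.toScheme := hD
  haveI : Nonempty D.toScheme := ⟨⟨x, hxD⟩⟩
  haveI : IsDomain Γ(D.toScheme, ⊤) := D.topIso.commRingCatIsoToRingEquiv.toMulEquiv.isDomain _
  haveI : IsIntegral D.toScheme := isIntegral_of_isAffine_of_isDomain _
  let η : X := D.ι (genericPoint (D : Scheme.{u}))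
  have hηD : ∀ w ∈ D, η ⤳ w := fun w hw =>
    (@genericPoint_specializes (D : Scheme.{u}) _ _ _ ⟨w, hw⟩).map D.ι.continuous
  let R := X.presheaf.stalk x
  haveI : IsDomain R := (hN x).1
  haveI : ValuationRing R := valuationRing_of_dim_le_one hx
  let K := FractionRing R
  let j : Spec (CommRingCat.of K) ⟶ X := Spec.map (CommRingCat.ofHom (algebraMap R K)) ≫ X.fromSpecStalk x
  let b : Spec R := ⟨⊥, Ideal.isPrime_bot⟩
  have hjb : ∀ t, j t = X.fromSpecStalk x b := fun t => by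
    show (Spec.map (CommRingCat.ofHom (algebraMap R K)) ≫ X.fromSpecStalk x) t = _
    rw [Scheme.Hom.comp_apply]
    congr 1
    refine PrimeSpectrum.ext ?_
    show Ideal.comap (algebraMap R K) t.asIdeal = ⊥
    rw [show t.asIdeal = ⊥ from (Ideal.eq_bot_or_top _).resolve_right t.2.ne_top, ← RingHom.ker_eq_comap_bot]
    exact (RingHom.injective_iff_ker_eq_bot _).1 (IsFractionRing.injective R K)
  have hjη : X.fromSpecStalk x b ⤳ η := by
    obtain ⟨P, hP⟩ : η ∈ Set.range (X.fromSpecStalk x) := by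
      rw [Scheme.range_fromSpecStalk]; exact hηD x hxD
    rw [← hP]
    exact ((PrimeSpectrum.le_iff_specializes _ _).1 (bot_le : b.asIdeal ≤ P.asIdeal)).map
      (X.fromSpecStalk x).continuous
  have hηU : η ∈ U := by
    obtain ⟨w, hwD, hwU⟩ := hU.inter_open_nonempty (D : Set X) D.2 ⟨x, hxD⟩
    exact (hηD w hwD).mem_open U.2 hwU
  have hbU : X.fromSpecStalk x b ∈ U := hjη.mem_open U.2 hηU
  have hjU : Set.range j ⊆ Set.range U.ι := by
    rintro _ ⟨t, rfl⟩
    rw [Scheme.Opens.range_ι, hjb t]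
    exact hbU
  let jU : Spec (CommRingCat.of K) ⟶ U.toScheme := IsOpenImmersion.lift U.ι j hjU
  have hsq : (jU ≫ e) ≫ q = Spec.map (CommRingCat.ofHom (algebraMap R K)) ≫ (X.fromSpecStalk x ≫ p) := by
    rw [Category.assoc, he, IsOpenImmersion.lift_fac_assoc, Category.assoc]
  have hval : ValuativeCriterion.Existence q := by
    have h : (ValuativeCriterion.Existence ⊓ @QuasiCompact : MorphismProperty Scheme.{u}) q := by
      rw [← UniversallyClosed.eq_valuativeCriterion]; infer_instance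
    exact h.1
  obtain ⟨⟨l⟩⟩ := hval { R := X.presheaf.stalk x, domain := (hN x).1, valuationRing := valuationRing_of_dim_le_one hx, K := K, i₁ := jU ≫ e, i₂ := X.fromSpecStalk x ≫ p, commSq := ⟨hsq⟩ }
  obtain ⟨W₀, hxW₀, ψ₀, hψ₀, hψ₀q⟩ := spread_out_of_isGermInjective' p q l.l l.fac_right
  refine ⟨W₀ ⊓ D, X.homOfLE inf_le_left ≫ ψ₀, ⟨hxW₀, hxD⟩, ?_, ?_⟩
  · rw [Category.assoc, hψ₀q, Scheme.homOfLE_ι_assoc]
  let O : X.Opens := W₀ ⊓ D ⊓ U
  have hb1 : X.fromSpecStalk x b ∈ W₀ ⊓ D :=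
    ((hjη.trans (hηD x hxD))).mem_open (W₀ ⊓ D).2 ⟨hxW₀, hxD⟩
  have hjO : Set.range j ⊆ Set.range O.ι := by
    rintro _ ⟨t, rfl⟩
    rw [Scheme.Opens.range_ι, hjb t]
    exact ⟨hb1, hbU⟩
  let jO : Spec (CommRingCat.of K) ⟶ O.toScheme := IsOpenImmersion.lift O.ι j hjO
  haveI : IsDominant jO := ⟨fun w => by
    obtain ⟨t⟩ : Nonempty (Spec (CommRingCat.of K)) := inferInstance
    refine Specializes.mem_closed ?_ isClosed_closure (subset_closure ⟨t, rfl⟩)
    refine O.ι.isEmbedding.toIsInducing.specializes_iff.1 ?_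
    rw [← Scheme.Hom.comp_apply, IsOpenImmersion.lift_fac, hjb t]
    exact hjη.trans (hηD _ w.2.1.2)⟩
  haveI : IsReduced O.toScheme := inferInstance
  refine ext_of_isDominant_of_isSeparated q ?_ jO ?_
  · rw [Category.assoc, Category.assoc, Category.assoc, he, hψ₀q, Scheme.homOfLE_ι_assoc,
      Scheme.homOfLE_ι_assoc, Scheme.homOfLE_ι_assoc]
  · have h1 : jO ≫ X.homOfLE (inf_le_right : O ≤ U) = jU := by
      rw [← cancel_mono U.ι, Category.assoc, Scheme.homOfLE_ι, IsOpenImmersion.lift_fac, IsOpenImmersion.lift_fac]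
    have h2 : jO ≫ X.homOfLE (inf_le_left : O ≤ W₀ ⊓ D) ≫ X.homOfLE inf_le_left =
        Spec.map (CommRingCat.ofHom (algebraMap R K)) ≫ W₀.fromSpecStalkOfMem x hxW₀ := by
      rw [← cancel_mono W₀.ι, Category.assoc, Category.assoc, Category.assoc, Scheme.homOfLE_ι,
        Scheme.homOfLE_ι, IsOpenImmersion.lift_fac, Scheme.Opens.fromSpecStalkOfMem_ι]
    calc jO ≫ X.homOfLE (inf_le_left : O ≤ W₀ ⊓ D) ≫ X.homOfLE inf_le_left ≫ ψ₀
        = (jO ≫ X.homOfLE (inf_le_left : O ≤ W₀ ⊓ D) ≫ X.homOfLE inf_le_left) ≫ ψ₀ := by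
          rw [Category.assoc, Category.assoc]
      _ = jU ≫ e := by rw [h2, Category.assoc, ← hψ₀, l.fac_left]
      _ = jO ≫ X.homOfLE (inf_le_right : O ≤ U) ≫ e := by rw [← Category.assoc, h1]

/-- extension to an open containing all points of codimension at most one -/
theorem exists_extension [IsLocallyNoetherian X] (hN : Pi1.IsNormalScheme X) (p : X ⟶ S) (q : Y ⟶ S)
    [IsProper q] (U : X.Opens) (hU : Dense (U : Set X)) (e : U.toScheme ⟶ Y) (he : e ≫ q = U.ι ≫ p) :
    ∃ (X' : X.Opens) (hle : U ≤ X') (φ : X'.toScheme ⟶ Y), X.homOfLE hle ≫ φ = e ∧ φ ≫ q = X'.ι ≫ p ∧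
      ∀ x : X, x ∉ X' → (2 : WithBot ℕ∞) ≤ ringKrullDim (X.presheaf.stalk x) := by
  haveI := isReduced_of_normal hN
  choose W ψ hxW hψq hψU using fun x : {x : X // ringKrullDim (X.presheaf.stalk x) ≤ 1} =>
    exists_local_extension hN p q U hU e he x.1 x.2
  let ι := Option {x : X // ringKrullDim (X.presheaf.stalk x) ≤ 1}
  let V : ι → X.Opens := fun i => i.elim U W
  let g : ∀ i : ι, (V i).toScheme ⟶ Y := fun i => match i with
    | none => e
    | some x => ψ x
  have hgq : ∀ i, g i ≫ q = (V i).ι ≫ p := fun i => by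
    cases i with
    | none => exact he
    | some x => exact hψq x
  have hgU : ∀ i, X.homOfLE (inf_le_left : V i ⊓ U ≤ V i) ≫ g i =
      X.homOfLE (inf_le_right : V i ⊓ U ≤ U) ≫ e := fun i => by
    cases i with
    | none => rfl
    | some x => exact hψU x
  have hagree : ∀ i k, X.homOfLE (inf_le_left : V i ⊓ V k ≤ V i) ≫ g i =
      X.homOfLE (inf_le_right : V i ⊓ V k ≤ V k) ≫ g k := fun i k => by
    let O := V i ⊓ V k
    haveI : IsReduced O.toScheme := inferInstance
    let j := X.homOfLE (inf_le_left : O ⊓ U ≤ O)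
    haveI : IsDominant j := ⟨fun w => by
      rw [mem_closure_iff]
      intro o ho hw
      obtain ⟨_, ⟨v, hv, rfl⟩, hvU⟩ := hU.inter_open_nonempty _ (O.ι.isOpenEmbedding.isOpenMap o ho) ⟨_, w, hw, rfl⟩
      refine ⟨v, hv, ⟨⟨O.ι v, ⟨v.2, hvU⟩⟩, ?_⟩⟩
      exact Scheme.homOfLE_apply' _ _ _⟩
    refine ext_of_isDominant_of_isSeparated q ?_ j ?_
    · rw [Category.assoc, Category.assoc, hgq, hgq, Scheme.homOfLE_ι_assoc, Scheme.homOfLE_ι_assoc]
    · have key : ∀ (l : ι) (hl : O ≤ V l), j ≫ X.homOfLE hl ≫ g l =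
          X.homOfLE (inf_le_right : O ⊓ U ≤ U) ≫ e := fun l hl => by
        have := congrArg (X.homOfLE (inf_le_inf_right U hl : O ⊓ U ≤ V l ⊓ U) ≫ ·) (hgU l)
        simpa only [j, Scheme.homOfLE_homOfLE_assoc] using this
      rw [key i inf_le_left, key k inf_le_right]
  let X' : X.Opens := ⨆ i, V i
  let 𝒰 := Scheme.Opens.iSupOpenCover V
  have hc : ∀ i k, pullback.fst (𝒰.f i) (𝒰.f k) ≫ g i = pullback.snd (𝒰.f i) (𝒰.f k) ≫ g k := fun i k => by
    have hcond : (pullback.fst (𝒰.f i) (𝒰.f k) ≫ (V i).ι) = pullback.snd (𝒰.f i) (𝒰.f k) ≫ (V k).ι := by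
      rw [← X.homOfLE_ι (le_iSup V i), ← X.homOfLE_ι (le_iSup V k)]
      exact (Category.assoc _ _ _).symm.trans ((congrArg (· ≫ X'.ι) pullback.condition).trans (Category.assoc _ _ _))
    have hr : Set.range (pullback.fst (𝒰.f i) (𝒰.f k) ≫ (V i).ι) ⊆ Set.range (V i ⊓ V k).ι := by
      rw [Scheme.Opens.range_ι]
      rintro _ ⟨w, rfl⟩
      refine ⟨?_, ?_⟩
      · exact (pullback.fst (𝒰.f i) (𝒰.f k) w).2
      · rw [hcond]; exact (pullback.snd (𝒰.f i) (𝒰.f k) w).2
    let l := IsOpenImmersion.lift (V i ⊓ V k).ι _ hr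
    have h1 : l ≫ X.homOfLE inf_le_left = pullback.fst (𝒰.f i) (𝒰.f k) := by
      rw [← cancel_mono (V i).ι, Category.assoc, Scheme.homOfLE_ι, IsOpenImmersion.lift_fac]
      rfl
    have h2 : l ≫ X.homOfLE inf_le_right = pullback.snd (𝒰.f i) (𝒰.f k) := by
      rw [← cancel_mono (V k).ι, Category.assoc, Scheme.homOfLE_ι, IsOpenImmersion.lift_fac, hcond]
      rfl
    rw [← h1, ← h2]
    exact (Category.assoc _ _ _).trans ((congrArg (l ≫ ·) (hagree i k)).trans (Category.assoc _ _ _).symm)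
  let φ : X'.toScheme ⟶ Y := 𝒰.glueMorphisms g hc
  refine ⟨X', le_iSup V none, φ, 𝒰.ι_glueMorphisms g hc none, ?_, fun x hx => ?_⟩
  · refine 𝒰.hom_ext _ _ fun i => ?_
    refine (Category.assoc _ _ _).symm.trans ((congrArg (· ≫ q) (𝒰.ι_glueMorphisms g hc i)).trans ?_)
    refine (hgq i).trans ((congrArg (· ≫ p) (X.homOfLE_ι (le_iSup V i)).symm).trans (Category.assoc _ _ _))
  · by_contra h2
    have h1 : ringKrullDim (X.presheaf.stalk x) ≤ 1 := by
      haveI := (hN x).1
      exact Order.le_of_lt_succ (lt_of_lt_of_le (not_le.1 h2) (by decide))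
    exact hx (Opens.mem_iSup.2 ⟨some ⟨x, h1⟩, hxW ⟨x, h1⟩⟩)

end Groth.L27.BirPi1
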